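import Groth.Agent.Neron.K531.Defs
import Groth.Agent.AlgSp.K631.FlatSpread

/-!
# Spreading out a morphism from an open part of the generic fibre (S15952, node PGa)

`exists_open`: a morphism `h : W ⟶ G` from an open subset `W` of the generic fibre of `Z ⟶ V` which is closed in the
generic fibre of an open subset `Wd` of `Z` extends to the local schemes over an open subset of `V` mapping to `Wd`
with generic point in `W`.
-/

set_option autoImplicit false

universe u

open CategoryTheory CategoryTheory.Limits AlgebraicGeometry TopologicalSpace Opposite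
open Groth.Agent.Sga7.H301.PGrp K631.Spread K531.Defs

namespace K765.SpreadOpen

theorem locallyOfFinitePresentation_of_isLocallyNoetherian {X Y : Scheme.{u}} (f : X ⟶ Y)
    [IsLocallyNoetherian Y] [LocallyOfFiniteType f] : LocallyOfFinitePresentation f where
  finitePresentation_appLE {U} hU {V} hV e := by
    have : IsNoetherianRing Γ(Y, U) := IsLocallyNoetherian.component_noetherian ⟨U, hU⟩
    exact RingHom.FinitePresentation.of_finiteType.1 (f.finiteType_appLE hU hV e)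

theorem sp_apply (A F : Type u) [CommRing A] [IsDomain A] [Field F] [Algebra A F] [IsFractionRing A F]
    (y : Spec (CommRingCat.of F)) : (sp A F y).asIdeal = ⊥ := by
  have h1 : (sp A F y).asIdeal = Ideal.comap (algebraMap A F) y.asIdeal := rfl
  have h2 : y.asIdeal = ⊥ := by
    rcases Ideal.eq_bot_or_top y.asIdeal with h | h
    · exact h
    · exact absurd h y.2.ne_top
  rw [h1, h2, ← RingHom.ker_eq_comap_bot]
  exact (RingHom.injective_iff_ker_eq_bot _).mp (IsFractionRing.injective A F)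

theorem core {R : Type u} [CommRing R] [IsDomain R] [IsNoetherianRing R] (L : Type u) [Field L] [Algebra R L]
    [IsFractionRing R L] {Z G P : Scheme.{u}} (z : Z ⟶ Spec (CommRingCat.of R)) [LocallyOfFiniteType z]
    [QuasiCompact z] (Wd : Z.Opens) (g : G ⟶ Spec (CommRingCat.of R)) [LocallyOfFinitePresentation g]
    {p : P ⟶ Z} {q : P ⟶ Spec (CommRingCat.of L)} (sq : IsPullback p q z (loc R L)) (W : P.Opens)
    (hW : W ≤ p ⁻¹ᵁ Wd) (hcl : ∀ x ∈ closure (W : Set P), p x ∈ Wd → x ∈ W)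
    (h : (W : Scheme.{u}) ⟶ G) (hh : h ≫ g = W.ι ≫ p ≫ z) :
    ∃ m ∈ nonZeroDivisors R, ∀ (A F : Type u) [CommRing A] [IsDomain A] [IsLocalRing A] [Field F] [Algebra A F]
      [IsFractionRing A F] (t : Spec (CommRingCat.of A) ⟶ Z), (∀ a, m ∉ (z (t a)).asIdeal) →
      Set.range t ⊆ (Wd : Set Z) →
      ∀ (w : Spec (CommRingCat.of F) ⟶ (W : Scheme.{u})), w ≫ W.ι ≫ p = sp A F ≫ t →
      ∃ y : Spec (CommRingCat.of A) ⟶ G, y ≫ g = t ≫ z ∧ sp A F ≫ y = w ≫ h := by
  have hloc : IsPreimmersion (loc R L) := IsPreimmersion.of_isLocalization (nonZeroDivisors R)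
  have hp : IsPreimmersion p := MorphismProperty.of_isPullback sq.flip hloc
  have hemb : Topology.IsEmbedding p := p.isEmbedding
  obtain ⟨O, hO, hOW⟩ := hemb.isOpen_iff.mp W.isOpen
  obtain ⟨W1, hW1⟩ : ∃ W1 : Z.Opens, W1 = (⟨O, hO⟩ : Z.Opens) ⊓ Wd := ⟨_, rfl⟩
  have hW1d : W1 ≤ Wd := by rw [hW1]; exact inf_le_right
  obtain rfl : W = p ⁻¹ᵁ W1 := by
    ext x
    rw [hW1]
    constructor
    · intro hx
      refine ⟨?_, hW hx⟩
      have : x ∈ p ⁻¹' O := by rw [hOW]; exact hx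
      exact this
    · intro hx
      have : x ∈ p ⁻¹' O := hx.1
      rw [hOW] at this
      exact this
  have hZ : IsLocallyNoetherian Z := LocallyOfFiniteType.isLocallyNoetherian z
  have hqc : QuasiCompact (W1.ι ≫ z) := inferInstance
  have hqs : QuasiSeparated (W1.ι ≫ z) := inferInstance
  have sq1 : IsPullback (p ∣_ W1) ((p ⁻¹ᵁ W1).ι ≫ q) (W1.ι ≫ z) (loc R L) :=
    ((isPullback_morphismRestrict p W1).flip.paste_horiz sq.flip).flip
  obtain ⟨m₁, hm₁, φ, a', h1, h2, h3⟩ := exists_extend' (nonZeroDivisors R) L (W1.ι ≫ z) g sq1 h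
    (by rw [hh, Category.assoc, sq.w])
  have hcZ : CompactSpace Z := by
    have := QuasiCompact.compactSpace_of_compactSpace z
    exact this
  have hcW : CompactSpace (Wd : Scheme.{u}) := by
    have : QuasiCompact (Wd.ι ≫ z) := inferInstance
    exact QuasiCompact.compactSpace_of_compactSpace (Wd.ι ≫ z)
  obtain ⟨m₂, hm₂, h4⟩ := exists_mem_forall (nonZeroDivisors R) (Wd.ι ≫ z)
    (K := Wd.ι ⁻¹' (closure (p '' (p ⁻¹ᵁ W1 : P.Opens)) \ W1))
    ((isClosed_closure.sdiff W1.isOpen).preimage Wd.ι.continuous) (by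
      rintro k ⟨hk1, hk2⟩
      by_contra hne
      push Not at hne
      apply hk2
      have hk : Wd.ι k ∈ Set.range p := by
        let y : Spec (CommRingCat.of L) := IsLocalRing.closedPoint L
        have hy : z (Wd.ι k) = loc R L y := by
          apply PrimeSpectrum.ext
          refine Eq.trans ?_ (sp_apply R L y).symm
          rw [eq_bot_iff]
          intro a ha
          by_contra h0
          exact hne a (mem_nonZeroDivisors_of_ne_zero h0) ha
        obtain ⟨x, hx, -⟩ := Scheme.exists_preimage_of_isPullback sq _ _ hy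
        exact ⟨x, hx⟩
      obtain ⟨x, hx⟩ := hk
      rw [← hx] at hk1 ⊢
      have hx1 : x ∈ closure ((p ⁻¹ᵁ W1 : P.Opens) : Set P) := by
        rw [hemb.isInducing.closure_eq_preimage_closure_image]
        exact hk1
      exact hcl x hx1 (by rw [hx]; exact k.2))
  refine ⟨m₁ * m₂, mul_mem hm₁ hm₂, ?_⟩
  intro A F _ _ _ _ _ _ t ht hr w hw
  have hmem : ∀ a, t a ∈ W1 := by
    intro a
    by_contra hne
    refine ht a (Ideal.mul_mem_left _ _ (h4 ⟨t a, hr ⟨a, rfl⟩⟩ ⟨?_, hne⟩))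
    let y : Spec (CommRingCat.of F) := IsLocalRing.closedPoint F
    have hy : (sp A F y) ⤳ a := by
      refine (PrimeSpectrum.le_iff_specializes (R := A) _ _).mp ?_
      exact (PrimeSpectrum.asIdeal_le_asIdeal (R := A) _ _).mp ((sp_apply A F y).le.trans bot_le)
    have hy2 := hy.map t.continuous
    rw [specializes_iff_mem_closure] at hy2
    refine closure_mono ?_ hy2
    rintro _ rfl
    refine ⟨(p ⁻¹ᵁ W1).ι (w y), (w y).2, ?_⟩
    have := congrArg (fun f => f y) hw
    simpa using this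
  obtain ⟨t1, ht1⟩ : ∃ t1 : Spec (CommRingCat.of A) ⟶ (W1 : Scheme.{u}), t1 ≫ W1.ι = t :=
    ⟨IsOpenImmersion.lift W1.ι t (by
      rintro _ ⟨a, rfl⟩
      rw [Scheme.Opens.range_ι]
      exact hmem a), IsOpenImmersion.lift_fac _ _ _⟩
  obtain ⟨t2, ht2⟩ : ∃ t2 : Spec (CommRingCat.of A) ⟶ (((W1.ι ≫ z) ⁻¹ᵁ (bo m₁)) : Scheme.{u}),
      t2 ≫ ((W1.ι ≫ z) ⁻¹ᵁ (bo m₁)).ι = t1 :=
    ⟨IsOpenImmersion.lift ((W1.ι ≫ z) ⁻¹ᵁ (bo m₁)).ι t1 (by
      rintro _ ⟨a, rfl⟩
      rw [Scheme.Opens.range_ι]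
      have h5 : W1.ι (t1 a) = t a := by
        rw [← Scheme.Hom.comp_apply, ht1]
      change m₁ ∉ ((W1.ι ≫ z) (t1 a)).asIdeal
      rw [Scheme.Hom.comp_apply, h5]
      exact fun h6 => ht a (Ideal.mul_mem_right _ _ h6)), IsOpenImmersion.lift_fac _ _ _⟩
  refine ⟨t2 ≫ φ, ?_, ?_⟩
  · rw [Category.assoc, h1, ← Category.assoc, ht2, ← Category.assoc, ht1]
  · rw [← h3, ← Category.assoc, ← Category.assoc]
    congr 1
    rw [← cancel_mono ((W1.ι ≫ z) ⁻¹ᵁ (bo m₁)).ι, ← cancel_mono W1.ι]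
    simp only [Category.assoc]
    rw [← Category.assoc t2, ht2, ht1, ← hw, ← Category.assoc a', h2, morphismRestrict_ι]

theorem exists_open {V : Scheme.{u}} [IsIntegral V] [IsNoetherian V] {L : Type u} [Field L]
    (η : Spec (CommRingCat.of L) ⟶ V)
    (hη : ∃ e : Spec (CommRingCat.of L) ≅ Spec V.functionField, η = e.hom ≫ V.fromSpecStalk (genericPoint V))
    {Z G : Scheme.{u}} (z : Z ⟶ V) [LocallyOfFiniteType z] [QuasiCompact z] (Wd : Z.Opens) (g : G ⟶ V)
    [LocallyOfFiniteType g] [IsSeparated g] [QuasiCompact g] (W : (pullback z η).Opens)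
    (hW : W ≤ (pullback.fst z η) ⁻¹ᵁ Wd)
    (hcl : ∀ x ∈ closure (W : Set ↥(pullback z η)), pullback.fst z η x ∈ Wd → x ∈ W)
    (h : (W : Scheme.{u}) ⟶ G) (hh : h ≫ g = W.ι ≫ pullback.fst z η ≫ z) :
    ∃ V' : V.Opens, genericPoint V ∈ V' ∧ ∀ (R F : Type u) [CommRing R] [IsDomain R] [IsLocalRing R] [Field F]
      [Algebra R F] [IsFractionRing R F] (r : Spec (CommRingCat.of R) ⟶ V), Set.range r ⊆ (V' : Set V) →
      ∀ (t : Spec (CommRingCat.of R) ⟶ Z), t ≫ z = r → Set.range t ⊆ (Wd : Set Z) →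
      ∀ (w : Spec (CommRingCat.of F) ⟶ (W : Scheme.{u})), w ≫ W.ι ≫ pullback.fst z η = sp R F ≫ t →
      ∃ y : Spec (CommRingCat.of R) ⟶ G, y ≫ g = r ∧ sp R F ≫ y = w ≫ h := by
  obtain ⟨e, hη⟩ := hη
  obtain ⟨V0, hV0, hgV0, -⟩ := exists_isAffineOpen_mem_and_subset (x := genericPoint V) (U := ⊤) (by trivial)
  have : Nonempty V0 := ⟨⟨_, hgV0⟩⟩
  have hnoeth : IsNoetherianRing Γ(V, V0) := IsLocallyNoetherian.component_noetherian ⟨V0, hV0⟩
  have hdom : IsDomain Γ(V, V0) := inferInstance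
  have hfr : IsFractionRing Γ(V, V0) V.functionField := functionField_isFractionRing_of_isAffineOpen V V0 hV0
  let c : Spec (CommRingCat.of V.functionField) ⟶ Spec (CommRingCat.of Γ(V, V0)) := loc Γ(V, V0) V.functionField
  let ι0 : Spec (CommRingCat.of Γ(V, V0)) ⟶ V := hV0.fromSpec
  have hι0 : IsOpenImmersion ι0 := inferInstanceAs (IsOpenImmersion hV0.fromSpec)
  have hc : c ≫ ι0 = V.fromSpecStalk (genericPoint V) := (hV0.fromSpecStalk_eq_fromSpecStalk hgV0)
  let e' : Spec (CommRingCat.of L) ≅ Spec (CommRingCat.of V.functionField) := e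
  have hη' : η = e'.hom ≫ c ≫ ι0 := by rw [hc]; exact hη
  have sq0 : IsPullback (pullback.fst z η) (pullback.snd z η ≫ e'.hom) z (c ≫ ι0) :=
    (IsPullback.of_hasPullback z η).of_iso (Iso.refl _) (Iso.refl _) e' (Iso.refl _) (by simp) (by simp)
      (by simp) (by simp [hη'])
  let p0 : pullback z η ⟶ pullback z ι0 := pullback.lift (pullback.fst z η) (pullback.snd z η ≫ e'.hom ≫ c)
    (by rw [pullback.condition, hη']; simp only [Category.assoc])
  have hp1 : p0 ≫ pullback.fst z ι0 = pullback.fst z η := pullback.lift_fst _ _ _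
  have hp2 : p0 ≫ pullback.snd z ι0 = (pullback.snd z η ≫ e'.hom) ≫ c := by
    rw [Category.assoc]
    exact pullback.lift_snd _ _ _
  have sq : IsPullback p0 (pullback.snd z η ≫ e'.hom) (pullback.snd z ι0) c :=
    IsPullback.of_right (by rw [hp1]; exact sq0) hp2 (IsPullback.of_hasPullback z ι0)
  have hlfp : LocallyOfFinitePresentation (pullback.snd g ι0) :=
    locallyOfFinitePresentation_of_isLocallyNoetherian _
  let h0 : (W : Scheme.{u}) ⟶ pullback g ι0 := pullback.lift h (W.ι ≫ p0 ≫ pullback.snd z ι0) (by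
    rw [hh, Category.assoc, Category.assoc, ← pullback.condition, ← Category.assoc p0, hp1])
  have h01 : h0 ≫ pullback.fst g ι0 = h := pullback.lift_fst _ _ _
  obtain ⟨m, hm, H⟩ := core V.functionField (pullback.snd z ι0) (pullback.fst z ι0 ⁻¹ᵁ Wd) (pullback.snd g ι0) sq W
    (by rw [← Scheme.Hom.comp_preimage, hp1]; exact hW)
    (fun x hx hx' => hcl x hx (by
      rw [← hp1]
      exact hx')) h0 (pullback.lift_snd _ _ _)
  refine ⟨ι0 ''ᵁ (bo m), ?_, ?_⟩
  · have hne : ((ι0 ''ᵁ (bo m) : V.Opens) : Set V).Nonempty := by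
      refine ⟨ι0 (c (IsLocalRing.closedPoint V.functionField)), _, ?_, rfl⟩
      change m ∉ (c (IsLocalRing.closedPoint V.functionField)).asIdeal
      intro h5
      have h6 : (c (IsLocalRing.closedPoint V.functionField)).asIdeal = ⊥ := sp_apply Γ(V, V0) V.functionField _
      rw [h6] at h5
      exact nonZeroDivisors.ne_zero hm h5
    exact ((genericPoint_spec V).mem_open_set_iff (ι0 ''ᵁ (bo m)).isOpen).mpr (by
      simpa using hne)
  intro R F _ _ _ _ _ _ r hr t ht htd w hw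
  obtain ⟨r0, hr0⟩ : ∃ r0 : Spec (CommRingCat.of R) ⟶ Spec (CommRingCat.of Γ(V, V0)), r0 ≫ ι0 = r :=
    ⟨IsOpenImmersion.lift ι0 r (by
      rintro _ ⟨a, rfl⟩
      obtain ⟨b, -, hb⟩ := hr ⟨a, rfl⟩
      exact ⟨b, hb⟩), IsOpenImmersion.lift_fac _ _ _⟩
  let t0 : Spec (CommRingCat.of R) ⟶ pullback z ι0 := pullback.lift t r0 (by rw [ht, hr0])
  have ht1 : t0 ≫ pullback.fst z ι0 = t := pullback.lift_fst _ _ _
  have ht2 : t0 ≫ pullback.snd z ι0 = r0 := pullback.lift_snd _ _ _
  obtain ⟨y, hy1, hy2⟩ := H R F t0 (by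
    intro a
    rw [← Scheme.Hom.comp_apply, ht2]
    obtain ⟨b, hb1, hb2⟩ := hr ⟨a, rfl⟩
    rw [← hr0, Scheme.Hom.comp_apply] at hb2
    have := ι0.isOpenEmbedding.injective hb2
    rw [← this]
    exact hb1) (by
    rintro _ ⟨a, rfl⟩
    change pullback.fst z ι0 (t0 a) ∈ Wd
    rw [← Scheme.Hom.comp_apply, ht1]
    exact htd ⟨a, rfl⟩) w (by
    apply pullback.hom_ext
    · simp only [Category.assoc]
      rw [hp1, ht1]
      exact hw
    · rw [← cancel_mono ι0]
      simp only [Category.assoc]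
      rw [← Category.assoc t0, ht2, hr0, ← pullback.condition, ← Category.assoc p0, hp1, ← ht,
        ← Category.assoc (sp R F), ← hw]
      simp only [Category.assoc])
  refine ⟨y ≫ pullback.fst g ι0, ?_, ?_⟩
  · rw [Category.assoc, pullback.condition, ← Category.assoc, hy1, ht2, hr0]
  · rw [← Category.assoc, hy2, Category.assoc, h01]

end K765.SpreadOpen
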